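import Groth.Agent.AutFibLib.Main
import Groth.Agent.BlanchardLib.Birat
import Groth.Agent.AlgSpRegLib.DenseSpace
import Groth.Agent.AlgSpRegLib.ImageImmersion
import Groth.Agent.TorsExtLib.Schemes

/-!
# Lifting automorphisms along a birational morphism
-/

set_option autoImplicit false
set_option backward.isDefEq.respectTransparency false
set_option backward.isDefEq.respectTransparency.types false
set_option linter.style.haveILetI false
set_option maxHeartbeats 1000000

universe u

open CategoryTheory TopologicalSpace CategoryTheory.Limits MonoidalCategory CartesianMonoidalCategory AlgebraicGeometry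
open scoped MonObj

noncomputable section

namespace Groth.Agent.AutFibLib

variable {k : Type u} [Field k] [IsAlgClosed k] {G X Y : Over (Spec (CommRingCat.of k))} [GrpObj G]

/-- Two families of automorphisms over the same family downstairs agree. -/
theorem famOf_eq_of_comp_eq [IsIntegral X.left] [IsLocallyNoetherian X.left] [IsSeparated X.hom] (f : X ⟶ Y)
    (a : AlgGrp.Action G X) (U : Y.left.Opens) (hne : (f.left ⁻¹' (U : Set Y.left)).Nonempty)
    (hU : IsIso (f.left ∣_ U)) {T : Over (Spec (CommRingCat.of k))} (g₁ g₂ : T ⟶ G)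
    (h : AutSch.famOf a g₁ ≫ f = AutSch.famOf a g₂ ≫ f) : AutSch.famOf a g₁ = AutSch.famOf a g₂ := by
  let φ₁ := AutSch.famOf a g₁
  let φ₂ := AutSch.famOf a g₂
  haveI : IsIso (AutSch.endOf φ₁) := isAutFamily_famOf a g₁
  haveI : IsIso (AutSch.endOf φ₁).left := (Over.forget _).map_isIso (AutSch.endOf φ₁)
  haveI : Flat T.hom := Groth.Agent.GrpField.flat_field _
  haveI : Flat (fst X T).left := inferInstanceAs (Flat (pullback.fst X.hom T.hom))
  haveI : Flat φ₁.left := by
    rw [show φ₁ = AutSch.endOf φ₁ ≫ fst X T from (AutSch.endOf_fst φ₁).symm, Over.comp_left]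
    infer_instance
  let V : X.left.Opens := f.left ⁻¹ᵁ U
  have hV : CInt.IsSchematicallyDense V :=
    AlgSpRegLib.isSchematicallyDense_of_dense V (V.isOpen.dense hne)
  let W : (X ⊗ T).left.Opens := φ₁.left ⁻¹ᵁ V
  have hW : CInt.IsSchematicallyDense W := AlgSpRegLib.isSchematicallyDense_preimage_of_qc φ₁.left V hV
  haveI : QuasiCompact W.ι :=
    MorphismProperty.of_isPullback (P := @QuasiCompact) (isPullback_morphismRestrict φ₁.left V) inferInstance
  haveI := AlgSpRegLib.isSchemeTheoreticallyDominant_of_dense hW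
  have h₂ : φ₂.left ⁻¹ᵁ V = W := by
    show (φ₂ ≫ f).left ⁻¹ᵁ U = (φ₁ ≫ f).left ⁻¹ᵁ U
    rw [h]
  refine Over.OverMorphism.ext (TorsExtLib.hom_ext_of_dominant X.hom (by rw [Over.w φ₁, Over.w φ₂]) W.ι ?_)
  have r₁ : Set.range (W.ι ≫ φ₁.left).base ⊆ Set.range V.ι.base := by
    rintro _ ⟨z, rfl⟩
    exact V.range_ι.ge z.2
  have r₂ : Set.range (W.ι ≫ φ₂.left).base ⊆ Set.range V.ι.base := by
    rintro _ ⟨z, rfl⟩
    exact V.range_ι.ge (h₂.ge z.2)
  have e : IsOpenImmersion.lift V.ι _ r₁ = IsOpenImmersion.lift V.ι _ r₂ := by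
    haveI : Mono (f.left ∣_ U) := inferInstance
    rw [← cancel_mono (f.left ∣_ U), ← cancel_mono U.ι]
    simp only [Category.assoc, morphismRestrict_ι]
    show IsOpenImmersion.lift V.ι _ r₁ ≫ V.ι ≫ f.left = IsOpenImmersion.lift V.ι _ r₂ ≫ V.ι ≫ f.left
    rw [IsOpenImmersion.lift_fac_assoc, IsOpenImmersion.lift_fac_assoc, Category.assoc, Category.assoc]
    have h' : φ₁.left ≫ f.left = φ₂.left ≫ f.left := by rw [← Over.comp_left, ← Over.comp_left, h]
    rw [h']
  rw [← IsOpenImmersion.lift_fac V.ι _ r₁, e, IsOpenImmersion.lift_fac]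

/-- The scheme of liftable automorphisms is closed in the automorphism scheme upstairs. -/
theorem isClosedImmersion_lift [IsIntegral X.left] [IsIntegral Y.left] [IsProper X.hom] [IsProper Y.hom]
    (hY : Pi1.IsNormalScheme Y.left) (f : X ⟶ Y) (U : Y.left.Opens) (hU : (U : Set Y.left).Nonempty)
    (hiso : IsIso (f.left ∣_ U)) [LocallyOfFiniteType G.hom] {a : AlgGrp.Action G X}
    (hG : AutSch.Represents X G a) {GY : Over (Spec (CommRingCat.of k))} [GrpObj GY] {aY : AlgGrp.Action GY Y}
    (hGY : AutSch.Represents Y GY aY) {H : Over (Spec (CommRingCat.of k))} [GrpObj H] (e : H ⟶ GY) [IsMonHom e]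
    (he : IsClosedImmersion e.left) (b : AlgGrp.Action H X) (hb : (H ◁ f) ≫ (e ▷ Y) ≫ aY.act = b.act ≫ f)
    (ρ : H ⟶ G) [IsMonHom ρ] (hρ : (ρ ▷ X) ≫ a.act = b.act) : IsClosedImmersion ρ.left := by
  haveI : IsProper (f.left ≫ Y.hom) := by rw [Over.w f]; infer_instance
  haveI : IsProper f.left := IsProper.of_comp f.left Y.hom
  haveI : IsLocallyNoetherian X.left := LocallyOfFiniteType.isLocallyNoetherian X.hom
  obtain ⟨y₀, hy₀⟩ := hU
  have hbij := BlanchardLib.bijective_app_of_birational hY f.left U ⟨⟨y₀, hy₀⟩⟩ hiso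
  have hf : ∀ W : Y.left.Opens, IsIso (f.left.app W) := fun W => (ConcreteCategory.isIso_iff_bijective _).2 (hbij W)
  have hne : (f.left ⁻¹' (U : Set Y.left)).Nonempty := by
    haveI := BlanchardLib.surjective_of_bijective f.left hbij
    obtain ⟨x, hx⟩ := f.left.surjective y₀
    exact ⟨x, show f.left x ∈ _ by rw [hx]; exact hy₀⟩
  -- `e` downstairs, `ρ` upstairs
  have hev : ∀ {T : Over (Spec (CommRingCat.of k))} (g : T ⟶ H) (x : T ⟶ X),
      ev f a (g ≫ ρ) x = lift (g ≫ e) (x ≫ f) ≫ aY.act := by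
    intro T g x
    have h1 := congrArg (lift g x ≫ ·) hb
    simp only [lift_whiskerLeft_assoc, lift_whiskerRight_assoc] at h1
    rw [h1, ← hρ, Category.assoc, lift_whiskerRight_assoc, ev]
  have hfamρ : ∀ {T : Over (Spec (CommRingCat.of k))} (g : T ⟶ H),
      AutSch.famOf a (g ≫ ρ) ≫ f = (f ▷ T) ≫ AutSch.famOf aY (g ≫ e) := by
    intro T g
    rw [AutSch.famOf, AutSch.famOf, comp_lift_assoc, whiskerRight_snd_assoc, whiskerRight_fst, Category.assoc,
      ← Category.assoc (snd X T) g ρ, ← Category.assoc (snd X T) g e]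
    exact hev _ _
  have hρD : Set.range ρ.left ⊆ locus f a := by
    refine range_subset_locus f a ρ fun x₁ x₂ h => ⟨?_, ?_⟩
    · rw [← Category.id_comp ρ, hev, hev, h]
    · rw [← Category.id_comp ρ, ← GrpObj.inv_comp, hev, hev, h]
  obtain ⟨Uo, j, _, _, ψ, hj, hψ, e₁⟩ := exists_autDesc f hf a
  haveI : Mono j := (Over.forget _).mono_of_mono_map (inferInstanceAs (Mono j.left))
  obtain ⟨q, hq, -⟩ := hGY.2 Uo ψ hψ trivial
  have hqj : AutSch.famOf a j ≫ f = (f ▷ Uo) ≫ AutSch.famOf aY q := by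
    rw [hq]
    have := congrArg (· ≫ fst Y Uo) e₁
    simpa [AutSch.endOf] using this
  let r : H ⟶ Uo := Over.homMk (IsOpenImmersion.lift j.left ρ.left (fun z hz => hj.ge (hρD hz))) (by
    rw [← Over.w j, IsOpenImmersion.lift_fac_assoc, Over.w ρ])
  have hr : r ≫ j = ρ := by
    ext1
    exact IsOpenImmersion.lift_fac _ _ _
  have hrq : r ≫ q = e := by
    have h1 : (f ▷ H) ≫ AutSch.famOf aY (r ≫ q) = (f ▷ H) ≫ AutSch.famOf aY e := by
      have h2 := hfamρ (𝟙 H)
      rw [Category.id_comp, Category.id_comp] at h2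
      rw [← h2, ← hr, AutSch.famOf_comp, AutSch.famOf_comp, AutSch.pullFam, AutSch.pullFam, Category.assoc, hqj,
        ← whisker_exchange_assoc]
    have h3 : AutSch.famOf aY (r ≫ q) = AutSch.famOf aY e := by
      refine (cancel_epi (β_ H Y).hom).1 (BlanchardLib.cancel_whisker f hf H ?_)
      rw [BraidedCategory.braiding_naturality_right_assoc, BraidedCategory.braiding_naturality_right_assoc, h1]
    exact (hGY.2 H (AutSch.famOf aY e) (isAutFamily_famOf aY e) trivial).unique h3 rfl
  let p₁ := pullback.fst e q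
  let p₂ := pullback.snd e q
  have hp : p₁ ≫ r = p₂ := by
    rw [← cancel_mono j, Category.assoc, hr]
    refine (hG.2 _ (AutSch.famOf a (p₂ ≫ j)) (isAutFamily_famOf a _) trivial).unique ?_ rfl
    refine famOf_eq_of_comp_eq f a U hne hiso _ _ ?_
    have h4 : p₁ ≫ e = p₂ ≫ q := pullback.condition
    rw [hfamρ p₁, h4, AutSch.famOf_comp, AutSch.famOf_comp, AutSch.pullFam, AutSch.pullFam, Category.assoc, hqj,
      ← whisker_exchange_assoc]
  let s : H ⟶ pullback e q := pullback.lift (𝟙 H) r (by rw [Category.id_comp, hrq])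
  have hs1 : s ≫ p₁ = 𝟙 H := pullback.lift_fst _ _ _
  have hs2 : p₁ ≫ s = 𝟙 _ := by
    refine pullback.hom_ext ?_ ?_
    · rw [Category.assoc, pullback.lift_fst, Category.comp_id, Category.id_comp]
    · rw [Category.assoc, pullback.lift_snd, Category.id_comp]; exact hp
  haveI : IsIso s := ⟨p₁, hs1, hs2⟩
  haveI : IsIso s.left := (Over.forget _).map_isIso s
  haveI : IsClosedImmersion p₂.left :=
    MorphismProperty.of_isPullback (P := @IsClosedImmersion)
      ((IsPullback.of_hasPullback e q).map (Over.forget _)) he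
  have hρs : ρ = s ≫ p₂ ≫ j := by rw [← Category.assoc, pullback.lift_snd, hr]
  rw [hρs, Over.comp_left, Over.comp_left]
  infer_instance

end Groth.Agent.AutFibLib

end
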