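import Groth.Agent.BlanchardLib.Main
import Groth.Agent.GrpFieldLib.Identity
import Groth.Agent.GrpFieldLib.Comps
import Groth.Agent.OrbitLib.Main
import Groth.Prelude

/-!
# The clopen locus of automorphisms compatible with a fibration
-/

set_option autoImplicit false
set_option backward.isDefEq.respectTransparency false
set_option backward.isDefEq.respectTransparency.types false
set_option linter.style.haveILetI false
set_option maxHeartbeats 1000000

universe u

open CategoryTheory TopologicalSpace CategoryTheory.Limits MonoidalCategory CartesianMonoidalCategory AlgebraicGeometry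
open scoped MonObj

noncomputable section

namespace Groth.Agent.AutFibLib

variable {k : Type u} [Field k] {G X Y : Over (Spec (CommRingCat.of k))} [GrpObj G]
variable (f : X ⟶ Y) (a : AlgGrp.Action G X)

/-- `(g, x) ↦ f (g · x)`. -/
def ev {T : Over (Spec (CommRingCat.of k))} (g : T ⟶ G) (x : T ⟶ X) : T ⟶ Y := lift g x ≫ a.act ≫ f

theorem comp_ev {T T' : Over (Spec (CommRingCat.of k))} (m : T' ⟶ T) (g : T ⟶ G) (x : T ⟶ X) :
    m ≫ ev f a g x = ev f a (m ≫ g) (m ≫ x) := by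
  rw [ev, ev, comp_lift_assoc]

/-- The maps `g` preserving fibres, with inverse. -/
def Pres {T : Over (Spec (CommRingCat.of k))} (g : T ⟶ G) : Prop :=
  ∀ x₁ x₂ : T ⟶ X, x₁ ≫ f = x₂ ≫ f → ev f a g x₁ = ev f a g x₂ ∧ ev f a g⁻¹ x₁ = ev f a g⁻¹ x₂

/-- The locus of points preserving the fibres, with inverse. -/
def locus : Set G.left :=
  {z | ∀ x₁ x₂ : 𝟙_ (Over (Spec (CommRingCat.of k))) ⟶ X, x₁ ≫ f = x₂ ≫ f →
    z ∈ Set.range (equalizer.ι (ev f a (𝟙 G) (toUnit G ≫ x₁)) (ev f a (𝟙 G) (toUnit G ≫ x₂))).left ∧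
    z ∈ Set.range (equalizer.ι (ev f a (𝟙 G)⁻¹ (toUnit G ≫ x₁)) (ev f a (𝟙 G)⁻¹ (toUnit G ≫ x₂))).left}

theorem isClosed_locus [IsSeparated Y.hom] : IsClosed (locus f a) := by
  have : locus f a = ⋂ (x₁ : 𝟙_ (Over (Spec (CommRingCat.of k))) ⟶ X) (x₂ : 𝟙_ (Over (Spec (CommRingCat.of k))) ⟶ X)
      (_ : x₁ ≫ f = x₂ ≫ f),
      Set.range (equalizer.ι (ev f a (𝟙 G) (toUnit G ≫ x₁)) (ev f a (𝟙 G) (toUnit G ≫ x₂))).left ∩
      Set.range (equalizer.ι (ev f a (𝟙 G)⁻¹ (toUnit G ≫ x₁)) (ev f a (𝟙 G)⁻¹ (toUnit G ≫ x₂))).left := by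
    ext z
    simp [locus, Set.mem_iInter]
  rw [this]
  exact isClosed_iInter fun x₁ => isClosed_iInter fun x₂ => isClosed_iInter fun _ =>
    (Scheme.Hom.isClosedEmbedding _).isClosed_range.inter (Scheme.Hom.isClosedEmbedding _).isClosed_range

theorem range_subset_locus {T : Over (Spec (CommRingCat.of k))} (g : T ⟶ G) (hg : Pres f a g) :
    Set.range g.left ⊆ locus f a := by
  rintro _ ⟨t, rfl⟩ x₁ x₂ e
  have h := hg (toUnit T ≫ x₁) (toUnit T ≫ x₂) (by rw [Category.assoc, e, Category.assoc])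
  refine ⟨⟨(equalizer.lift g ?_).left t, ?_⟩, ⟨(equalizer.lift g ?_).left t, ?_⟩⟩
  · rw [comp_ev, comp_ev, Category.comp_id, comp_toUnit_assoc, comp_toUnit_assoc]; exact h.1
  · rw [← Scheme.Hom.comp_apply, ← Over.comp_left, equalizer.lift_ι]
  · rw [comp_ev, comp_ev, GrpObj.comp_inv, Category.comp_id, comp_toUnit_assoc, comp_toUnit_assoc]; exact h.2
  · rw [← Scheme.Hom.comp_apply, ← Over.comp_left, equalizer.lift_ι]

variable [IsAlgClosed k] [LocallyOfFiniteType G.hom]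

theorem factor_point {A : Over (Spec (CommRingCat.of k))} (i : A ⟶ G) [IsClosedImmersion i.left]
    (g : 𝟙_ (Over (Spec (CommRingCat.of k))) ⟶ G) {t : (𝟙_ (Over (Spec (CommRingCat.of k)))).left}
    (h : g.left t ∈ Set.range i.left) : ∃ q, q ≫ i = g := by
  haveI : Subsingleton (𝟙_ (Over (Spec (CommRingCat.of k)))).left := inferInstanceAs (Subsingleton (PrimeSpectrum k))
  haveI : LocallyOfFiniteType A.hom := by rw [← Over.w i]; infer_instance
  haveI : IsClosedImmersion g.left := isClosedImmersion_of_comp_eq_id G.hom g.left (Over.w g)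
  obtain ⟨z, hz⟩ := h
  obtain ⟨q, hq⟩ := OrbitLib.exists_rational_point (X := A)
    (B := i.left ⁻¹' Set.range g.left) ((g.left.isClosedEmbedding.isClosed_range).preimage i.left.continuous)
    ⟨z, ⟨t, hz.symm⟩⟩
  refine ⟨q, ?_⟩
  ext1
  refine ext_of_apply_closedPoint_eq G.hom (Over.w (q ≫ i)) (Over.w g) ?_
  obtain ⟨t', ht'⟩ := hq ⟨IsLocalRing.closedPoint k, rfl⟩
  rw [Over.comp_left, Scheme.Hom.comp_apply]
  exact ht'.symm.trans (congrArg g.left (Subsingleton.elim _ _))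

theorem pres_of_mem [IsSeparated Y.hom] (g : 𝟙_ (Over (Spec (CommRingCat.of k))) ⟶ G)
    {t : (𝟙_ (Over (Spec (CommRingCat.of k)))).left} (h : g.left t ∈ locus f a) : Pres f a g := by
  intro x₁ x₂ e
  obtain ⟨q, hq⟩ := factor_point _ g (h x₁ x₂ e).1
  obtain ⟨q', hq'⟩ := factor_point _ g (h x₁ x₂ e).2
  have h1 := congrArg (q ≫ ·) (equalizer.condition (ev f a (𝟙 G) (toUnit G ≫ x₁)) (ev f a (𝟙 G) (toUnit G ≫ x₂)))
  have h2 := congrArg (q' ≫ ·) (equalizer.condition (ev f a (𝟙 G)⁻¹ (toUnit G ≫ x₁)) (ev f a (𝟙 G)⁻¹ (toUnit G ≫ x₂)))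
  simp only [← Category.assoc, hq] at h1
  simp only [← Category.assoc, hq'] at h2
  rw [comp_ev, comp_ev, Category.comp_id, comp_toUnit_assoc, comp_toUnit_assoc, toUnit_unit, Category.id_comp,
    Category.id_comp] at h1
  rw [comp_ev, comp_ev, GrpObj.comp_inv, Category.comp_id, comp_toUnit_assoc, comp_toUnit_assoc, toUnit_unit,
    Category.id_comp, Category.id_comp] at h2
  exact ⟨h1, h2⟩

theorem pres_mul {g h : 𝟙_ (Over (Spec (CommRingCat.of k))) ⟶ G} (hg : Pres f a g) (hh : Pres f a h) :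
    Pres f a (g * h) := by
  intro x₁ x₂ e
  constructor
  · unfold ev
    rw [← Category.assoc, ← Category.assoc, BlanchardLib.lift_mul_act, BlanchardLib.lift_mul_act]
    simpa only [ev, Category.assoc] using
      (hg (lift h x₁ ≫ a.act) (lift h x₂ ≫ a.act) (by simpa only [ev, Category.assoc] using (hh x₁ x₂ e).1)).1
  · unfold ev
    rw [mul_inv_rev, ← Category.assoc, ← Category.assoc, BlanchardLib.lift_mul_act, BlanchardLib.lift_mul_act]
    simpa only [ev, Category.assoc] using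
      (hh (lift g⁻¹ x₁ ≫ a.act) (lift g⁻¹ x₂ ≫ a.act) (by simpa only [ev, Category.assoc] using (hg x₁ x₂ e).2)).2

variable [UniversallyClosed f.left] [QuasiCompact f.left] [QuasiSeparated f.left]
  (hf : ∀ U : Y.left.Opens, IsIso (f.left.app U))

include hf in
theorem pres_identity {G₀ : Over (Spec (CommRingCat.of k))} [GrpObj G₀] [LocallyOfFiniteType G₀.hom]
    [ConnectedSpace G₀.left] (i : G₀ ⟶ G) [IsMonHom i] (h : 𝟙_ (Over (Spec (CommRingCat.of k))) ⟶ G₀) :
    Pres f a (h ≫ i) := by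
  let a₀ : AlgGrp.Action G₀ X :=
    { act := (i ▷ X) ≫ a.act
      one_act := by
        rw [← comp_whiskerRight_assoc, IsMonHom.one_hom, a.one_act]
      mul_act := by
        let g₁ : (G₀ ⊗ G₀) ⊗ X ⟶ G₀ := fst _ _ ≫ fst _ _
        let g₂ : (G₀ ⊗ G₀) ⊗ X ⟶ G₀ := fst _ _ ≫ snd _ _
        have eL : (μ[G₀] ▷ X) ≫ (i ▷ X) = lift ((g₁ ≫ i) * (g₂ ≫ i)) (snd _ _) := by
          refine CartesianMonoidalCategory.hom_ext _ _ ?_ (by simp)
          rw [lift_fst, ← MonObj.mul_comp, Category.assoc, whiskerRight_fst, whiskerRight_fst_assoc, Hom.mul_def,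
            ← comp_lift, lift_fst_snd, Category.comp_id, Category.assoc]
        have eR : (α_ G₀ G₀ X).hom ≫ (G₀ ◁ ((i ▷ X) ≫ a.act)) ≫ (i ▷ X) =
            lift (g₁ ≫ i) (lift (g₂ ≫ i) (snd _ _) ≫ a.act) := by
          have h1 : (α_ G₀ G₀ X).hom ≫ snd _ _ ≫ (i ▷ X) = lift (g₂ ≫ i) (snd _ _) := by
            ext <;> simp [g₂]
          refine CartesianMonoidalCategory.hom_ext _ _ (by simp [g₁]) ?_
          rw [lift_snd, ← h1]
          simp
        rw [reassoc_of% eL, BlanchardLib.lift_mul_act, ← eR]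
        simp }
  have key : ∀ (p : 𝟙_ (Over (Spec (CommRingCat.of k))) ⟶ G₀) (x₁ x₂ : 𝟙_ (Over (Spec (CommRingCat.of k))) ⟶ X),
      x₁ ≫ f = x₂ ≫ f → ev f a (p ≫ i) x₁ = ev f a (p ≫ i) x₂ := fun p x₁ x₂ e => by
    have := BlanchardLib.act_eq_of_collapse f hf a₀ (BlanchardLib.collapse_of_connected f hf a₀) p x₁ x₂ e
    simpa [a₀, ev] using this
  intro x₁ x₂ e
  refine ⟨key h x₁ x₂ e, ?_⟩
  rw [← GrpObj.inv_comp]
  exact key h⁻¹ x₁ x₂ e

include hf in
theorem isOpen_locus [IsSeparated Y.hom] : IsOpen (locus f a) := by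
  obtain ⟨G₀, _, i, hi, hic, hif, hr, hgi, -⟩ := Groth.Agent.GrpField.exists_identity_component (G := G)
  haveI := hic; haveI := hif; haveI := hgi
  haveI : LocallyOfFiniteType G₀.hom := by rw [← Over.w i]; infer_instance
  haveI : IrreducibleSpace G₀.left :=
    hgi.geometrically_irreducibleSpace (K := k) (𝟙 (Spec (CommRingCat.of k))) (𝟙 G₀.left) G₀.hom (IsPullback.of_horiz_isIso ⟨by simp⟩)
  haveI : IsLocallyNoetherian G.left := LocallyOfFiniteType.isLocallyNoetherian G.hom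
  haveI : LocallyOfFinitePresentation i.left := by infer_instance
  have hopen : IsOpen (Set.range i.left) := i.left.isOpenMap.isOpen_range
  haveI : JacobsonSpace G.left := LocallyOfFiniteType.jacobsonSpace G.hom
  rw [isOpen_iff_forall_mem_open]
  intro z hz
  -- a rational point in the closure of `z`
  obtain ⟨g₀, hg₀⟩ := OrbitLib.exists_rational_point (X := G) isClosed_closure
    (⟨z, subset_closure rfl⟩ : (closure ({z} : Set G.left)).Nonempty)
  haveI : Nonempty (𝟙_ (Over (Spec (CommRingCat.of k)))).left := inferInstanceAs (Nonempty (PrimeSpectrum k))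
  obtain ⟨t⟩ := ‹Nonempty (𝟙_ (Over (Spec (CommRingCat.of k)))).left›
  have hg₀D : g₀.left t ∈ locus f a :=
    closure_minimal (Set.singleton_subset_iff.2 hz) (isClosed_locus f a) (hg₀ ⟨t, rfl⟩)
  have hp₀ := pres_of_mem f a g₀ hg₀D
  let τ : G ≅ G :=
    { hom := (toUnit G ≫ g₀) * 𝟙 G
      inv := (toUnit G ≫ g₀⁻¹) * 𝟙 G
      hom_inv_id := by
        rw [MonObj.comp_mul, comp_toUnit_assoc, Category.comp_id, ← mul_assoc, ← MonObj.comp_mul, inv_mul_cancel,
          MonObj.comp_one, one_mul]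
      inv_hom_id := by
        rw [MonObj.comp_mul, comp_toUnit_assoc, Category.comp_id, ← mul_assoc, ← MonObj.comp_mul, mul_inv_cancel,
          MonObj.comp_one, one_mul] }
  let h : G.left ≃ₜ G.left := Scheme.homeoOfIso ((Over.forget _).mapIso τ)
  let C : Set G.left := h '' Set.range i.left
  have hCo : IsOpen C := h.isOpenMap _ hopen
  have hCc : IsClosed C := h.isClosedMap _ i.left.isClosedEmbedding.isClosed_range
  have hzC : z ∈ C := by
    have h1 : g₀.left t ∈ C := by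
      refine ⟨((1 : 𝟙_ (Over (Spec (CommRingCat.of k))) ⟶ G₀) ≫ i).left t, ⟨_, rfl⟩, ?_⟩
      show (((1 : 𝟙_ (Over (Spec (CommRingCat.of k))) ⟶ G₀) ≫ i) ≫ τ.hom).left t = g₀.left t
      rw [MonObj.one_comp, MonObj.comp_mul, comp_toUnit_assoc, Category.comp_id, toUnit_unit, Category.id_comp,
        mul_one]
    exact (specializes_iff_mem_closure.2 (hg₀ ⟨t, rfl⟩)).mem_open hCo h1
  refine ⟨C, ?_, hCo, hzC⟩
  rw [← hCc.closure_eq, ← JacobsonSpace.closure_inter_closedPoints_eq_closure hCc.isLocallyClosed]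
  refine closure_minimal (fun w hw => ?_) (isClosed_locus f a)
  obtain ⟨q, hq⟩ := OrbitLib.exists_rational_point (X := G) (B := {w}) hw.2 ⟨w, rfl⟩
  have hqw : q.left t = w := hq ⟨t, rfl⟩
  obtain ⟨v, hv, hvw⟩ := hw.1
  obtain ⟨p, hp⟩ := factor_point i (g₀⁻¹ * q) (t := t) (by
    have e : g₀⁻¹ * q = q ≫ τ.inv := by
      rw [MonObj.comp_mul, comp_toUnit_assoc, Category.comp_id, toUnit_unit, Category.id_comp]
    rw [e, Over.comp_left, Scheme.Hom.comp_apply, hqw, ← hvw]
    show h.symm (h v) ∈ _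
    rw [h.symm_apply_apply]; exact hv)
  have hq' : q = g₀ * (p ≫ i) := by rw [hp, mul_inv_cancel_left]
  rw [← hqw]
  refine range_subset_locus f a q ?_ ⟨t, rfl⟩
  rw [hq']
  exact pres_mul f a hp₀ (pres_identity f a hf i p)

end Groth.Agent.AutFibLib

end
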