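import Groth.Agent.AutFibLib.Locus
import Groth.Agent.ProjBunLib.Props

/-!
# The automorphism scheme of a fibration is closed in that of the source
-/

set_option autoImplicit false
set_option backward.isDefEq.respectTransparency false
set_option backward.isDefEq.respectTransparency.types false
set_option linter.style.haveILetI false
set_option maxHeartbeats 1000000

universe u

open CategoryTheory TopologicalSpace CategoryTheory.Limits MonoidalCategory CartesianMonoidalCategory AlgebraicGeometry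
open scoped MonObj

noncomputable section

namespace Groth.Agent.AutFibLib

variable {k : Type u} [Field k] [IsAlgClosed k] {G X Y : Over (Spec (CommRingCat.of k))} [GrpObj G]
variable (f : X ⟶ Y) [UniversallyClosed f.left] [QuasiCompact f.left] [QuasiSeparated f.left]
  (hf : ∀ U : Y.left.Opens, IsIso (f.left.app U))
  [LocallyOfFiniteType X.hom] [LocallyOfFiniteType Y.hom] [IsSeparated Y.hom]

include hf in
/-- A family of morphisms preserving the fibres at rational points descends. -/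
theorem exists_desc (a : AlgGrp.Action G X) {H : Over (Spec (CommRingCat.of k))} [LocallyOfFiniteType H.hom] (m : H ⟶ G)
    (h : ∀ (p : 𝟙_ (Over (Spec (CommRingCat.of k))) ⟶ H) (x₁ x₂ : 𝟙_ (Over (Spec (CommRingCat.of k))) ⟶ X),
      x₁ ≫ f = x₂ ≫ f → ev f a (p ≫ m) x₁ = ev f a (p ≫ m) x₂) :
    ∃ c : H ⊗ Y ⟶ Y, (H ◁ f) ≫ c = ev f a (fst H X ≫ m) (snd H X) := by
  let φ := (H ◁ f).left
  let h' := (ev f a (fst H X ≫ m) (snd H X)).left
  haveI : UniversallyClosed φ := BlanchardLib.universallyClosed_whisker f H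
  haveI : Surjective φ := BlanchardLib.surjective_of_bijective φ (BlanchardLib.bijective_whisker f hf H)
  haveI : LocallyOfFiniteType (H ⊗ X).hom := by
    show LocallyOfFiniteType (pullback.fst H.hom X.hom ≫ H.hom); infer_instance
  haveI : LocallyOfFiniteType (H ⊗ Y).hom := by
    show LocallyOfFiniteType (pullback.fst H.hom Y.hom ≫ H.hom); infer_instance
  haveI : JacobsonSpace (H ⊗ X).left := LocallyOfFiniteType.jacobsonSpace (H ⊗ X).hom
  haveI : Subsingleton (𝟙_ (Over (Spec (CommRingCat.of k)))).left := inferInstanceAs (Subsingleton (PrimeSpectrum k))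
  haveI : Nonempty (𝟙_ (Over (Spec (CommRingCat.of k)))).left := inferInstanceAs (Nonempty (PrimeSpectrum k))
  obtain ⟨t⟩ := ‹Nonempty (𝟙_ (Over (Spec (CommRingCat.of k)))).left›
  have hclosed : ∀ w, IsClosed ({w} : Set (H ⊗ Y).left) → w ∈ H0Lib.collapse φ h' := by
    intro w hw
    obtain ⟨r, hr⟩ := OrbitLib.exists_rational_point (X := H ⊗ Y) hw ⟨w, rfl⟩
    obtain ⟨z, hz⟩ := φ.surjective w
    obtain ⟨s₀, hs₀⟩ := OrbitLib.exists_rational_point (X := H ⊗ X) (B := φ ⁻¹' {w}) (hw.preimage φ.continuous) ⟨z, hz⟩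
    refine ⟨h' (s₀.left t), fun x hx => ?_⟩
    have hy₀ : IsClosed ({h' (s₀.left t)} : Set Y.left) := by
      haveI : IsClosedImmersion (s₀ ≫ ev f a (fst H X ≫ m) (snd H X)).left :=
        isClosedImmersion_of_comp_eq_id Y.hom _ (Over.w (s₀ ≫ ev f a (fst H X ≫ m) (snd H X)))
      have e : Set.range (s₀ ≫ ev f a (fst H X ≫ m) (snd H X)).left = {h' (s₀.left t)} := by
        refine Set.eq_singleton_iff_unique_mem.2 ⟨⟨t, rfl⟩, ?_⟩
        rintro _ ⟨t', rfl⟩
        rw [Subsingleton.elim t' t]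
        rfl
      rw [← e]
      exact (Scheme.Hom.isClosedEmbedding _).isClosed_range
    have hFc : IsClosed (φ ⁻¹' {w}) := hw.preimage φ.continuous
    have hsub : φ ⁻¹' {w} ⊆ h' ⁻¹' {h' (s₀.left t)} := by
      rw [← hFc.closure_eq, ← JacobsonSpace.closure_inter_closedPoints_eq_closure hFc.isLocallyClosed]
      refine closure_minimal (fun v hv => ?_) (hy₀.preimage h'.continuous)
      obtain ⟨s, hs⟩ := OrbitLib.exists_rational_point (X := H ⊗ X) (B := {v}) hv.2 ⟨v, rfl⟩
      have hsv : s.left t = v := hs ⟨t, rfl⟩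
      have e : s ≫ (H ◁ f) = s₀ ≫ (H ◁ f) := by
        refine Over.OverMorphism.ext (ext_of_apply_closedPoint_eq (H ⊗ Y).hom (Over.w (s ≫ (H ◁ f))) (Over.w (s₀ ≫ (H ◁ f))) ?_)
        rw [Over.comp_left, Over.comp_left, Scheme.Hom.comp_apply, Scheme.Hom.comp_apply]
        rw [Subsingleton.elim (IsLocalRing.closedPoint k) t]
        refine (congrArg φ hsv).trans ?_
        exact hv.1.trans (hs₀ ⟨t, rfl⟩).symm
      have e1 : s ≫ fst H X = s₀ ≫ fst H X := by simpa using congrArg (· ≫ fst H Y) e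
      have e2 : (s ≫ snd H X) ≫ f = (s₀ ≫ snd H X) ≫ f := by simpa using congrArg (· ≫ snd H Y) e
      have e3 : s ≫ ev f a (fst H X ≫ m) (snd H X) = s₀ ≫ ev f a (fst H X ≫ m) (snd H X) := by
        rw [comp_ev, comp_ev, ← Category.assoc, ← Category.assoc, e1]
        exact h _ _ _ e2
      show h' v = h' (s₀.left t)
      rw [← hsv]
      exact congrArg (fun q => q.left t) e3
    exact hsub hx
  have hc : ∀ w, w ∈ H0Lib.collapse φ h' := by
    intro w
    by_contra hw
    haveI : JacobsonSpace (H ⊗ Y).left := LocallyOfFiniteType.jacobsonSpace (H ⊗ Y).hom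
    obtain ⟨v, hv, hv'⟩ := nonempty_inter_closedPoints (Z := (H0Lib.collapse φ h')ᶜ) ⟨w, hw⟩
      (H0Lib.isOpen_collapse φ h' (BlanchardLib.bijective_whisker f hf H)).isClosed_compl.isLocallyClosed
    exact hv (hclosed v hv')
  obtain ⟨c, hc', -⟩ := BlanchardLib.existsUnique_desc φ h' (BlanchardLib.bijective_whisker f hf H) hc
  refine ⟨Over.homMk c ?_, Over.OverMorphism.ext hc'⟩
  refine H0Lib.hom_ext_of_bijective φ (BlanchardLib.bijective_whisker f hf H) _ _ ?_
  rw [← Category.assoc, hc']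
  show h' ≫ Y.hom = φ ≫ (H ⊗ Y).hom
  rw [Over.w (ev f a (fst H X ≫ m) (snd H X)), Over.w (H ◁ f)]

omit [UniversallyClosed f.left] [QuasiCompact f.left] [QuasiSeparated f.left] [LocallyOfFiniteType X.hom]
  [LocallyOfFiniteType Y.hom] [IsSeparated Y.hom] [IsAlgClosed k] in
theorem endOf_famOf (a : AlgGrp.Action G X) {T : Over (Spec (CommRingCat.of k))} (g h : T ⟶ G) :
    AutSch.endOf (AutSch.famOf a g) ≫ AutSch.endOf (AutSch.famOf a h) = AutSch.endOf (AutSch.famOf a (h * g)) := by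
  refine CartesianMonoidalCategory.hom_ext _ _ ?_ (by simp)
  rw [Category.assoc, AutSch.endOf_fst, AutSch.endOf_fst]
  simp only [AutSch.famOf, AutSch.endOf, comp_lift_assoc, lift_snd_assoc, lift_fst, MonObj.comp_mul]
  rw [BlanchardLib.lift_mul_act]

omit [UniversallyClosed f.left] [QuasiCompact f.left] [QuasiSeparated f.left] [LocallyOfFiniteType X.hom]
  [LocallyOfFiniteType Y.hom] [IsSeparated Y.hom] [IsAlgClosed k] in
theorem endOf_famOf_one (a : AlgGrp.Action G X) {T : Over (Spec (CommRingCat.of k))} :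
    AutSch.endOf (AutSch.famOf a (1 : T ⟶ G)) = 𝟙 _ := by
  refine CartesianMonoidalCategory.hom_ext _ _ ?_ (by simp)
  rw [AutSch.endOf_fst, Category.id_comp, AutSch.famOf, MonObj.comp_one, BlanchardLib.lift_one_act]

omit [UniversallyClosed f.left] [QuasiCompact f.left] [QuasiSeparated f.left] [LocallyOfFiniteType X.hom]
  [LocallyOfFiniteType Y.hom] [IsSeparated Y.hom] [IsAlgClosed k] in
theorem isAutFamily_famOf (a : AlgGrp.Action G X) {T : Over (Spec (CommRingCat.of k))} (g : T ⟶ G) :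
    AutSch.IsAutFamily (AutSch.famOf a g) :=
  ⟨⟨AutSch.endOf (AutSch.famOf a g⁻¹), by rw [endOf_famOf, inv_mul_cancel, endOf_famOf_one],
    by rw [endOf_famOf, mul_inv_cancel, endOf_famOf_one]⟩⟩

omit [UniversallyClosed f.left] [QuasiCompact f.left] [QuasiSeparated f.left] [LocallyOfFiniteType X.hom]
  [LocallyOfFiniteType Y.hom] [IsSeparated Y.hom] [IsAlgClosed k] in
theorem pres_of_prop (a : AlgGrp.Action G X) {T : Over (Spec (CommRingCat.of k))} (g : T ⟶ G)
    (hP : ∃ ψ : Y ⊗ T ⟶ Y, AutSch.IsAutFamily ψ ∧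
      AutSch.endOf (AutSch.famOf a g) ≫ (f ▷ T) = (f ▷ T) ≫ AutSch.endOf ψ) : Pres f a g := by
  obtain ⟨ψ, hψ, e⟩ := hP
  haveI : IsIso (AutSch.endOf ψ) := hψ
  have hev : ∀ x : T ⟶ X, ev f a g x = lift (x ≫ f) (𝟙 T) ≫ ψ := by
    intro x
    have := congrArg (fun q => lift x (𝟙 T) ≫ q ≫ fst Y T) e
    simpa [AutSch.endOf, AutSch.famOf, ev, comp_lift_assoc] using this
  intro x₁ x₂ he
  refine ⟨by rw [hev, hev, he], ?_⟩
  have key : ∀ x : T ⟶ X, lift (ev f a g⁻¹ x) (𝟙 T) ≫ AutSch.endOf ψ = lift (x ≫ f) (𝟙 T) := by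
    intro x
    refine CartesianMonoidalCategory.hom_ext _ _ ?_ (by simp)
    rw [Category.assoc, AutSch.endOf_fst, lift_fst, show ev f a g⁻¹ x = (lift g⁻¹ x ≫ a.act) ≫ f by
      rw [ev, Category.assoc], ← hev, ev, ← Category.assoc, ← BlanchardLib.lift_mul_act, mul_inv_cancel,
      BlanchardLib.lift_one_act]
  have := (key x₁).trans ((congrArg (fun y => lift y (𝟙 T)) he).trans (key x₂).symm)
  simpa using congrArg (· ≫ fst Y T) ((cancel_mono (AutSch.endOf ψ)).1 this)

include hf in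
/-- The universal descended family on the locus of automorphisms preserving the fibres. -/
theorem exists_autDesc [LocallyOfFiniteType G.hom] (a : AlgGrp.Action G X) :
    ∃ (Uo : Over (Spec (CommRingCat.of k))) (j : Uo ⟶ G) (_ : IsClosedImmersion j.left) (_ : IsOpenImmersion j.left)
      (ψ : Y ⊗ Uo ⟶ Y), Set.range j.left = locus f a ∧ AutSch.IsAutFamily ψ ∧
        AutSch.endOf (AutSch.famOf a j) ≫ (f ▷ Uo) = (f ▷ Uo) ≫ AutSch.endOf ψ := by
  haveI : Subsingleton (𝟙_ (Over (Spec (CommRingCat.of k)))).left := inferInstanceAs (Subsingleton (PrimeSpectrum k))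
  haveI : Nonempty (𝟙_ (Over (Spec (CommRingCat.of k)))).left := inferInstanceAs (Nonempty (PrimeSpectrum k))
  obtain ⟨t⟩ := ‹Nonempty (𝟙_ (Over (Spec (CommRingCat.of k)))).left›
  let U : G.left.Opens := ⟨locus f a, isOpen_locus f a hf⟩
  let Uo : Over (Spec (CommRingCat.of k)) := Over.mk (U.ι ≫ G.hom)
  let j : Uo ⟶ G := Over.homMk U.ι rfl
  haveI : LocallyOfFiniteType Uo.hom := inferInstanceAs (LocallyOfFiniteType (U.ι ≫ G.hom))
  haveI : IsClosedImmersion U.ι := .of_isPreimmersion _ (by rw [Scheme.Opens.range_ι]; exact isClosed_locus f a)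
  haveI : IsClosedImmersion j.left := ‹IsClosedImmersion U.ι›
  haveI : Mono j := (Over.forget _).mono_of_mono_map (inferInstanceAs (Mono U.ι))
  have hpj : ∀ p : 𝟙_ (Over (Spec (CommRingCat.of k))) ⟶ Uo, Pres f a (p ≫ j) := fun p =>
    pres_of_mem f a (p ≫ j) (t := t) (by
      have := U.range_ι.le ⟨p.left t, rfl⟩
      exact this)
  obtain ⟨c, hc⟩ := exists_desc f hf a j fun p x₁ x₂ e => (hpj p x₁ x₂ e).1
  obtain ⟨c', hc'⟩ := exists_desc f hf a j⁻¹ fun p x₁ x₂ e => by
    rw [GrpObj.comp_inv]; exact (hpj p x₁ x₂ e).2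
  -- the descended family of automorphisms
  have hdesc : ∀ (m : Uo ⟶ G) (d : Uo ⊗ Y ⟶ Y), (Uo ◁ f) ≫ d = ev f a (fst Uo X ≫ m) (snd Uo X) →
      AutSch.endOf (AutSch.famOf a m) ≫ (f ▷ Uo) = (f ▷ Uo) ≫ AutSch.endOf ((β_ Y Uo).hom ≫ d) := by
    intro m d hd
    refine CartesianMonoidalCategory.hom_ext _ _ ?_ (by simp)
    rw [Category.assoc, whiskerRight_fst, AutSch.endOf_fst_assoc, Category.assoc, AutSch.endOf_fst,
      BraidedCategory.braiding_naturality_left_assoc, hd, comp_ev, AutSch.famOf, ev, Category.assoc,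
      braiding_hom_fst_assoc, braiding_hom_snd]
  have e₁ := hdesc j c hc
  have e₂ := hdesc j⁻¹ c' hc'
  have cancel : ∀ {p q : Y ⊗ Uo ⟶ Y ⊗ Uo}, (f ▷ Uo) ≫ p = (f ▷ Uo) ≫ q → p = q := by
    intro p q e
    have h1 : (β_ Uo Y).hom ≫ p = (β_ Uo Y).hom ≫ q := by
      refine BlanchardLib.cancel_whisker f hf Uo ?_
      rw [BraidedCategory.braiding_naturality_right_assoc, BraidedCategory.braiding_naturality_right_assoc, e]
    exact (cancel_epi _).1 h1
  have hiso : AutSch.IsAutFamily ((β_ Y Uo).hom ≫ c) := by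
    refine ⟨⟨AutSch.endOf ((β_ Y Uo).hom ≫ c'), cancel ?_, cancel ?_⟩⟩
    · rw [← Category.assoc, ← e₁, Category.assoc, ← e₂, ← Category.assoc, endOf_famOf, inv_mul_cancel,
        endOf_famOf_one, Category.id_comp, Category.comp_id]
    · rw [← Category.assoc, ← e₂, Category.assoc, ← e₁, ← Category.assoc, endOf_famOf, mul_inv_cancel,
        endOf_famOf_one, Category.id_comp, Category.comp_id]
  exact ⟨Uo, j, inferInstance, inferInstanceAs (IsOpenImmersion U.ι), _, U.range_ι, hiso, e₁⟩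

theorem isClosedImmersion [LocallyOfFiniteType G.hom] {a : AlgGrp.Action G X} (hG : AutSch.Represents X G a)
    {H : Over (Spec (CommRingCat.of k))} [GrpObj H] {b : AlgGrp.Action H X}
    (hH : AutSch.RepresentsSub X
      (fun T φ => ∃ ψ : Y ⊗ T ⟶ Y, AutSch.IsAutFamily ψ ∧ AutSch.endOf φ ≫ (f ▷ T) = (f ▷ T) ≫ AutSch.endOf ψ) H b)
    (hf : ∀ U : Y.left.Opens, IsIso (f.left.app U))
    (ρ : H ⟶ G) (hρ : (ρ ▷ X) ≫ a.act = b.act) : IsClosedImmersion ρ.left := by
  haveI : Subsingleton (𝟙_ (Over (Spec (CommRingCat.of k)))).left := inferInstanceAs (Subsingleton (PrimeSpectrum k))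
  haveI : Nonempty (𝟙_ (Over (Spec (CommRingCat.of k)))).left := inferInstanceAs (Nonempty (PrimeSpectrum k))
  obtain ⟨t⟩ := ‹Nonempty (𝟙_ (Over (Spec (CommRingCat.of k)))).left›
  have hfam : ∀ {T : Over (Spec (CommRingCat.of k))} (g : T ⟶ H), AutSch.famOf b g = AutSch.famOf a (g ≫ ρ) := by
    intro T g
    rw [AutSch.famOf, AutSch.famOf, ← hρ, lift_whiskerRight_assoc, Category.assoc]
  have hρD : Set.range ρ.left ⊆ locus f a := by
    refine range_subset_locus f a ρ (pres_of_prop f a ρ ?_)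
    have := hH.1 H (𝟙 H)
    rwa [hfam, Category.id_comp] at this
  obtain ⟨Uo, j, _, _, ψ, hj, hiso, e₁⟩ := exists_autDesc f hf a
  haveI : Mono j := (Over.forget _).mono_of_mono_map (inferInstanceAs (Mono j.left))
  obtain ⟨s, hs, -⟩ := hH.2 Uo (AutSch.famOf a j) (isAutFamily_famOf a j) ⟨_, hiso, e₁⟩
  have hsρ : s ≫ ρ = j :=
    (hG.2 Uo (AutSch.famOf a j) (isAutFamily_famOf a j) trivial).unique ((hfam s).symm.trans hs) rfl
  let r : H ⟶ Uo := Over.homMk (IsOpenImmersion.lift j.left ρ.left (fun z hz => hj.ge (hρD hz))) (by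
    rw [← Over.w j, IsOpenImmersion.lift_fac_assoc, Over.w ρ])
  have hr : r ≫ j = ρ := by
    ext1
    exact IsOpenImmersion.lift_fac _ _ _
  have hrs : r ≫ s = 𝟙 H := by
    refine (hH.2 H (AutSch.famOf b (𝟙 H)) (isAutFamily_famOf b _) (hH.1 H _)).unique ?_ rfl
    rw [hfam, hfam, Category.assoc, hsρ, hr, Category.id_comp]
  have hsr : s ≫ r = 𝟙 Uo := by
    rw [← cancel_mono j, Category.assoc, hr, hsρ, Category.id_comp]
  haveI : IsIso r := ⟨s, hrs, hsr⟩
  haveI : IsIso r.left := (Over.forget _).map_isIso r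
  rw [← hr, Over.comp_left]
  infer_instance

end Groth.Agent.AutFibLib

end
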